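import Groth.Agent.EllLift.K820.FamFib
import Groth.Agent.EllLift.K820.SecLocal
import Groth.Agent.EllLift.K820.SecMain

/-!
# Normalised Weierstrass coordinates of the affine base changes of a pointed family
-/

set_option autoImplicit false
universe u

open CategoryTheory CategoryTheory.Limits MonoidalCategory CartesianMonoidalCategory AlgebraicGeometry Opposite
open scoped MonObj

namespace K248.EllEnd

open Groth.Agent K820 K820.EW
open Groth.Agent.VarietyA.Ell (WEq WEqInf sc)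

/-- Restriction between affine opens is flat. -/
theorem flat_res {S : Scheme.{u}} {U U' : S.Opens} (hU : IsAffineOpen U) (hU' : IsAffineOpen U') (h : U' ≤ U) :
    (S.presheaf.map (homOfLE h).op).hom.Flat := by
  have h1 : IsOpenImmersion (Spec.map (S.presheaf.map (homOfLE h).op)) := by
    have : IsOpenImmersion (Spec.map (S.presheaf.map (homOfLE h).op) ≫ hU.fromSpec) := by
      rw [IsAffineOpen.map_fromSpec hU hU' (homOfLE h).op]
      infer_instance
    exact IsOpenImmersion.of_comp _ hU.fromSpec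
  have h2 : Flat (Spec.map (S.presheaf.map (homOfLE h).op)) := inferInstance
  exact (HasRingHomProperty.Spec_iff (P := @Flat)).mp h2

variable {S : Scheme.{u}} (J : Over S) [GrpObj J] (σ₀ σ₁ : 𝟙_ (Over S) ⟶ J)

/-- Weierstrass coordinates of the base change of `J`, with equation `W`, normalised by `σ₀` and `σ₁`. -/
structure NW {A : Type u} [CommRing A] (W : WeierstrassCurve A) (j : Spec (CommRingCat.of A) ⟶ S) where
  /-- the complement of the unit section -/
  U : (XJ J j).Opens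
  /-- the coordinates -/
  c : Co W (qJ J j) (secJ J j η[J]) U
  n : Norm c (secJ J j σ₀) (secJ J j σ₁)

variable {J σ₀ σ₁}

section Affine

variable {A : Type u} [CommRing A] {W W' : WeierstrassCurve A} {j : Spec (CommRingCat.of A) ⟶ S}

/-- The morphism to the Weierstrass model. -/
noncomputable def NW.hom (N : NW J σ₀ σ₁ W j) : XJ J j ⟶ E W := N.c.hom

@[reassoc]
theorem NW.hom_str (N : NW J σ₀ σ₁ W j) : N.hom ≫ str W = qJ J j := WCo.hom_str _ N.c.cover

theorem NW.isIso_hom (hJ : AgPol.IsAbSch J 1) (N : NW J σ₀ σ₁ W j) : IsIso N.hom := by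
  have h1 := hJ.smooth
  have h2 := hJ.proper
  exact N.c.isIso_hom (EllFib.of_isPullback (IsPullback.of_hasPullback J.hom j) (Genus.ellFib J hJ)) (secJ_q J j η[J])

/-- **Uniqueness of normalised coordinates.** -/
theorem NW.unique (hJ : AgPol.IsAbSch J 1) (N : NW J σ₀ σ₁ W j) (N' : NW J σ₀ σ₁ W' j) : W = W' ∧ HEq N.hom N'.hom := by
  have h1 := hJ.smooth
  have h2 := hJ.proper
  obtain ⟨U, c, n⟩ := N
  obtain ⟨U', c', n'⟩ := N'
  have hU : U = U' := by
    ext y
    exact (c.hU y).trans (c'.hU y).symm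
  subst hU
  exact Norm.unique (EllFib.of_isPullback (IsPullback.of_hasPullback J.hom j) (Genus.ellFib J hJ)) (secJ_q J j η[J])
    (secJ_q J j σ₀) (secJ_q J j σ₁) n n'

theorem NW.hom_eq (hJ : AgPol.IsAbSch J 1) (N N' : NW J σ₀ σ₁ W j) : N.hom = N'.hom :=
  eq_of_heq (N.unique hJ N').2

variable {B : Type u} [CommRing B] (φ : A →+* B) (hφ : φ.Flat) {j' : Spec (CommRingCat.of B) ⟶ S}
  (h : Spec.map (CommRingCat.ofHom φ) ≫ j = j')

/-- Flat base change. -/
noncomputable def NW.pull (N : NW J σ₀ σ₁ W j) : NW J σ₀ σ₁ (W.map φ) j' where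
  U := mapJ J φ j j' h ⁻¹ᵁ N.U
  c := N.c.pull φ (isPullback_mapJ J φ j j' h) (secJ_q J j η[J]) (secJ_q J j' η[J]) (secJ_map J φ j j' h η[J]) hφ
  n := N.n.pull φ (isPullback_mapJ J φ j j' h) (secJ_q J j η[J]) (secJ_q J j' η[J]) (secJ_map J φ j j' h η[J]) hφ
    (secJ_map J φ j j' h σ₀) (secJ_map J φ j j' h σ₁)

theorem NW.pull_hom (N : NW J σ₀ σ₁ W j) : (N.pull φ hφ h).hom ≫ bc W φ = mapJ J φ j j' h ≫ N.hom :=
  Co.pull_hom φ (isPullback_mapJ J φ j j' h) (secJ_q J j η[J]) (secJ_q J j' η[J]) (secJ_map J φ j j' h η[J]) N.c hφ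

end Affine

/-- **Local existence of normalised coordinates.** -/
theorem exists_nw (hJ : AgPol.IsAbSch J 1) (hgood : LevelGrp.Good J σ₀ σ₁) (s : S) :
    ∃ (U : S.Opens) (hU : IsAffineOpen U) (_ : s ∈ U) (W : WeierstrassCurve Γ(S, U)),
      Nonempty (NW J σ₀ σ₁ W (show Spec (CommRingCat.of Γ(S, U)) ⟶ S from hU.fromSpec)) := by
  have h1 := hJ.smooth
  have h2 := hJ.proper
  have h3 := K814.RelDim.of_isAbSch J 1 hJ
  obtain ⟨_, ⟨V, hV, rfl⟩, hsV, -⟩ := S.isBasis_affineOpens.exists_subset_of_mem_open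
    (show s ∈ (Set.univ : Set S) from trivial) isOpen_univ
  let A := Γ(S, V)
  let j : Spec (CommRingCat.of A) ⟶ S := hV.fromSpec
  obtain ⟨p, hp⟩ : ∃ p : PrimeSpectrum A, j p = s := by
    have : s ∈ Set.range hV.fromSpec := by rw [hV.range_fromSpec]; exact hsV
    exact this
  have hst : MorphismProperty.IsStableUnderBaseChange (@SmoothOfRelativeDimension.{u} 1) :=
    smoothOfRelativeDimension_isStableUnderBaseChange 1
  have hrd : SmoothOfRelativeDimension 1 (qJ J j) :=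
    MorphismProperty.of_isPullback (P := @SmoothOfRelativeDimension 1) (IsPullback.of_hasPullback J.hom j) h3
  obtain ⟨b, hb, H⟩ := exists_secData (qJ J j) (secJ J j η[J]) (secJ_q J j η[J]) p
  have hU : IsAffineOpen (S.basicOpen b) := hV.basicOpen b
  have hle : S.basicOpen b ≤ V := S.basicOpen_le b
  let φ : A →+* Γ(S, S.basicOpen b) := (S.presheaf.map (homOfLE hle).op).hom
  let j' : Spec (CommRingCat.of Γ(S, S.basicOpen b)) ⟶ S := hU.fromSpec
  have hj' : Spec.map (CommRingCat.ofHom φ) ≫ j = j' := IsAffineOpen.map_fromSpec hV hU (homOfLE hle).op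
  have hunit : IsUnit (φ b) := RingedSpace.isUnit_res_basicOpen _ b
  have hsb : s ∈ S.basicOpen b := by
    rw [← hp]
    have h5 : j ⁻¹ᵁ S.basicOpen b = PrimeSpectrum.basicOpen b := hV.fromSpec_preimage_basicOpen b
    have h6 : p ∈ j ⁻¹ᵁ S.basicOpen b := by rw [h5]; exact hb
    exact h6
  obtain ⟨D⟩ := H φ (flat_res hV hU hle) hunit (isPullback_mapJ J φ j j' hj') (secJ J j' η[J]) (secJ_q J j' η[J])
    (secJ_map J φ j j' hj' η[J]) (cU (secJ J j' η[J])) (mem_cU _)
  obtain ⟨W, ⟨c⟩⟩ := D.exists_co' (EllFib.of_isPullback (IsPullback.of_hasPullback J.hom j') (Genus.ellFib J hJ))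
  have k0 : ⊤ ≤ secJ J j' σ₀ ⁻¹ᵁ cU (secJ J j' η[J]) := by
    apply top_le_of_ne J hJ j' σ₀
    intro Ω _ _ t
    exact (hgood Ω t (ptJ J t σ₀) (ptJ J t σ₁) (ptJ_comp J t σ₀) (ptJ_comp J t σ₁)).1
  have k1 : ⊤ ≤ secJ J j' σ₁ ⁻¹ᵁ cU (secJ J j' η[J]) := by
    apply top_le_of_ne J hJ j' σ₁
    intro Ω _ _ t
    exact (hgood Ω t (ptJ J t σ₀) (ptJ J t σ₁) (ptJ_comp J t σ₀) (ptJ_comp J t σ₁)).2.1
  obtain ⟨u1, u2⟩ := isUnit_of_good J hJ hgood j' c k0 k1
  obtain ⟨W', c', n⟩ := exists_norm (secJ_q J j' η[J]) (secJ_q J j' σ₀) (secJ_q J j' σ₁) c k0 k1 u1 u2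
  exact ⟨S.basicOpen b, hU, hsb, W', ⟨⟨_, c', n⟩⟩⟩

end K248.EllEnd
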